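import Groth.Agent.CommAlg6.KoszulFree
import Groth.Agent.CAlgH.KoszulEuler.RelHom
import Mathlib.RingTheory.Flat.TorsionFree

/-!
# Koszul complexes of `(x f₁, …, x fₙ)`
-/

universe u

set_option autoImplicit false
set_option backward.isDefEq.respectTransparency false
set_option backward.isDefEq.respectTransparency.types false

open CategoryTheory CategoryTheory.Limits CochainComplex
open scoped Pointwise
open Groth.Agent.Misc15.Koszul Groth.Agent.CommAlg6

namespace Groth.Agent.Koszul15

variable {A : Type u} [CommRing A]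

theorem exists_scale (x : A) : ∀ l : List A,
    ∃ e : ∀ i : ℤ, (_root_.Koszul.koszul A (l.map (fun f => x * f))).X i ≃ₗ[A]
        (_root_.Koszul.koszul A l).X i,
      ∀ (i j : ℤ) (v), e j ((_root_.Koszul.koszul A (l.map (fun f => x * f))).d i j v) =
        x • (_root_.Koszul.koszul A l).d i j (e i v)
  | [] => ⟨fun i => LinearEquiv.refl A _, fun i j v => by
      rw [show (_root_.Koszul.koszul A ([] : List A)).d i j = 0 from
          HomologicalComplex.single_obj_d _ _ _ _ _,
        show (_root_.Koszul.koszul A (([] : List A).map fun f => x * f)).d i j = 0 from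
          HomologicalComplex.single_obj_d _ _ _ _ _]
      simp⟩
  | f :: l => by
    obtain ⟨e, he⟩ := exists_scale x l
    let K := _root_.Koszul.koszul A l
    let K' := _root_.Koszul.koszul A (l.map fun g => x * g)
    refine ⟨fun i => ((KoszulFree.coneEquiv (K := K') (x * f) i).trans
      ((e (i + 1)).prodCongr (e i))).trans (KoszulFree.coneEquiv (K := K) f i).symm,
      fun i j v => ?_⟩
    change (KoszulFree.coneEquiv (K := K) f j).symm
        ((e (j + 1)).prodCongr (e j) (KoszulFree.coneEquiv (K := K') (x * f) j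
          (((mappingCone ((x * f) • 𝟙 K')).d i j).hom v))) =
      x • ((mappingCone (f • 𝟙 K)).d i j).hom ((KoszulFree.coneEquiv (K := K) f i).symm
        ((e (i + 1)).prodCongr (e i) (KoszulFree.coneEquiv (K := K') (x * f) i v)))
    by_cases hij : i + 1 = j
    · subst hij
      refine cone_ext (f • 𝟙 K) (i + 1 + 1) rfl ?_ ?_
      · simp only [cfst_smul]
        show cfst _ (i + 1 + 1) rfl (cmk (f • 𝟙 K) (i + 1 + 1) rfl _ _) = _
        rw [cfst_cmk, cfst_d _ (i + 1) (i + 1 + 1) rfl rfl]
        show e (i + 1 + 1) (cfst _ (i + 1 + 1) rfl _) = x • -(K.d (i + 1) (i + 1 + 1)).hom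
          (cfst _ (i + 1) rfl (cmk (f • 𝟙 K) (i + 1) rfl _ _))
        rw [cfst_cmk, cfst_d _ (i + 1) (i + 1 + 1) rfl rfl, map_neg, he, smul_neg]
        rfl
      · simp only [csnd_smul]
        show csnd _ (cmk (f • 𝟙 K) (i + 1 + 1) rfl _ _) = _
        rw [csnd_cmk, csnd_d _ (i + 1) rfl, smul_id_f]
        show e (i + 1) (csnd _ _) = x • (f • cfst _ (i + 1) rfl (cmk (f • 𝟙 K) (i + 1) rfl _ _) +
          (K.d i (i + 1)).hom (csnd _ (cmk (f • 𝟙 K) (i + 1) rfl _ _)))
        rw [cfst_cmk, csnd_cmk, csnd_d _ (i + 1) rfl, smul_id_f, map_add, he, map_smul, smul_add,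
          smul_smul]
        rfl
    · rw [show (mappingCone ((x * f) • 𝟙 K')).d i j = 0 from HomologicalComplex.shape _ _ _ hij,
        show (mappingCone (f • 𝟙 K)).d i j = 0 from HomologicalComplex.shape _ _ _ hij]
      simp

theorem isSMulRegular_X {x : A} (hx : x ∈ nonZeroDivisors A) (l : List A) (i : ℤ) :
    IsSMulRegular ((_root_.Koszul.koszul A l).X i) x := by
  have := (KoszulFree.free_finite_X l i).1
  rw [← KoszulFree.koszul_eq l] at this
  exact Module.Flat.isSMulRegular_of_nonZeroDivisors hx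

/-- Homology as cycles modulo boundaries. -/
theorem nonempty_homology_quot (C : CochainComplex (ModuleCat.{u} A) ℤ) (q : ℤ) :
    Nonempty (C.homology q ≅ ModuleCat.of A (↥(LinearMap.ker (C.d q (q + 1)).hom) ⧸
      Submodule.comap (LinearMap.ker (C.d q (q + 1)).hom).subtype
        (LinearMap.range (C.d (q - 1) q).hom))) := by
  let S := C.sc' (q - 1) q (q + 1)
  refine ⟨((C.homologyIsoSc' (q - 1) q (q + 1) (by simp) (by simp)).trans S.moduleCatHomologyIso).trans
    (Submodule.quotEquivOfEq _ _ ?_).toModuleIso⟩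
  ext ⟨v, hv⟩
  simp only [LinearMap.mem_range, Submodule.mem_comap, Submodule.coe_subtype]
  exact ⟨fun ⟨w, hw⟩ => ⟨w, congrArg Subtype.val hw⟩, fun ⟨w, hw⟩ => ⟨w, Subtype.ext hw⟩⟩

theorem nonempty_homology_scale {x : A} (hx : x ∈ nonZeroDivisors A) (l : List A) (q : ℤ) :
    Nonempty ((_root_.Koszul.koszul A (l.map (fun f => x * f))).homology q ≅
      ModuleCat.of A (↥(LinearMap.ker ((_root_.Koszul.koszul A l).d q (q + 1)).hom) ⧸
        Submodule.comap (LinearMap.ker ((_root_.Koszul.koszul A l).d q (q + 1)).hom).subtype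
          (Ideal.span {x} • LinearMap.range ((_root_.Koszul.koszul A l).d (q - 1) q).hom))) := by
  obtain ⟨e, he⟩ := exists_scale x l
  obtain ⟨h⟩ := nonempty_homology_quot (_root_.Koszul.koszul A (l.map fun f => x * f)) q
  refine ⟨h.trans (Submodule.Quotient.equiv _ _ ((e q).ofSubmodules _ _ ?_) ?_).toModuleIso⟩
  · ext z
    simp only [Submodule.mem_map, LinearMap.mem_ker]
    constructor
    · rintro ⟨v, hv, rfl⟩
      refine isSMulRegular_X hx l (q + 1) ?_
      simp only [smul_zero]
      exact (he q (q + 1) v).symm.trans (by rw [hv, map_zero])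
    · intro hz
      refine ⟨(e q).symm z, (e (q + 1)).injective ?_, (e q).apply_symm_apply z⟩
      rw [map_zero, he, LinearEquiv.apply_symm_apply, hz, smul_zero]
  · ext ⟨z, hz⟩
    simp only [Submodule.mem_map, Submodule.mem_comap, Submodule.coe_subtype,
      Submodule.ideal_span_singleton_smul, LinearMap.mem_range]
    constructor
    · rintro ⟨⟨v, hv⟩, ⟨w, hw⟩, h'⟩
      rw [Subtype.ext_iff] at h'
      refine (Submodule.mem_smul_pointwise_iff_exists _ _ _).mpr ⟨_, ⟨e (q - 1) w, rfl⟩, ?_⟩
      exact (he _ _ w).symm.trans ((congrArg (e q) hw).trans h')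
    · intro h'
      obtain ⟨_, ⟨w, rfl⟩, hw⟩ := (Submodule.mem_smul_pointwise_iff_exists _ _ _).mp h'
      refine ⟨⟨(_root_.Koszul.koszul A (l.map fun f => x * f)).d (q - 1) q ((e (q - 1)).symm w), ?_⟩,
        ⟨_, rfl⟩, Subtype.ext ?_⟩
      · exact congrArg (fun g => g.hom ((e (q - 1)).symm w))
          ((_root_.Koszul.koszul A (l.map fun f => x * f)).d_comp_d (q - 1) q (q + 1))
      · exact (he _ _ _).trans (by rw [LinearEquiv.apply_symm_apply]; exact hw)

end Groth.Agent.Koszul15
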